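import Groth.Agent.Lib.UnipSplit24.GrpLike
import Groth.Agent.Lib.SplitTors24.Point
import Groth.Agent.Lib.ExtTors24.Basic
import Groth.Agent.Lib.RankCell14.Compat
import Groth.Agent.S6006
import Mathlib.RingTheory.TensorProduct.MvPolynomial

/-!
# Connected commutative unipotent groups: torsors over affine bases are trivial and the group is an affine space
-/

set_option autoImplicit false
set_option linter.all false
set_option backward.isDefEq.respectTransparency false

universe u

open CategoryTheory CategoryTheory.Limits MonoidalCategory CartesianMonoidalCategory MonObj GrpObj AlgebraicGeometry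
open scoped TensorProduct

namespace GrothLib.UnipSplit24

open GrothLib.MultHopf14 GrothLib.SplitTors24

/-- A pseudo-torsor over the terminal object. -/
theorem isIso_shear_of_isPullback {T : Scheme.{u}} {G X : Over T} [GrpObj G] (a : AlgGrp.Action G X)
    (h : IsPullback a.act (snd G X) (toUnit X) (toUnit X)) : IsIso (lift a.act (snd G X)) :=
  GrothLib.GrpSchField.isIso_of_points _
    (fun Z b => ⟨h.lift (b ≫ fst X X) (b ≫ snd X X) (Subsingleton.elim _ _), by
      apply CartesianMonoidalCategory.hom_ext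
      · rw [Category.assoc, lift_fst, h.lift_fst]
      · rw [Category.assoc, lift_snd, h.lift_snd]⟩)
    (fun Z p p' e => h.hom_ext
      (by simpa [Category.assoc] using congrArg (· ≫ fst X X) e)
      (by simpa [Category.assoc] using congrArg (· ≫ snd X X) e))

theorem isPullback_of_isIso_shear {T : Scheme.{u}} {G X : Over T} [GrpObj G] (a : AlgGrp.Action G X)
    (h : IsIso (lift a.act (snd G X))) : IsPullback a.act (snd G X) (toUnit X) (toUnit X) := by
  refine IsPullback.of_isLimit' ⟨Subsingleton.elim _ _⟩ (PullbackCone.IsLimit.mk _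
    (fun c => lift c.fst c.snd ≫ inv (lift a.act (snd G X))) (fun c => ?_) (fun c => ?_) fun c m h1 h2 => ?_)
  · have e : inv (lift a.act (snd G X)) ≫ a.act = fst X X := by rw [IsIso.inv_comp_eq, lift_fst]
    rw [Category.assoc, e, lift_fst]
  · have e : inv (lift a.act (snd G X)) ≫ snd G X = snd X X := by rw [IsIso.inv_comp_eq, lift_snd]
    rw [Category.assoc, e, lift_snd]
  · rw [IsIso.eq_comp_inv, comp_lift, h1, h2]

/-- The structure morphism of an object as a morphism to the unit object. -/
theorem toUnit_left {T : Scheme.{u}} (X : Over T) : (toUnit X).left = X.hom :=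
  (Category.comp_id _).symm.trans (Over.w (toUnit X))

/-- An additive torsor over an affine scheme is trivial. -/
theorem exists_point_of_Ga {T : Scheme.{u}} [IsAffine T] {Q W : Over T} [GrpObj Q] (b : AlgGrp.Action Q W)
    (e : Grp.mk Q ≅ Grp.mk (Red.Ga T)) (hb : IsPullback b.act (snd Q W) (toUnit W) (toUnit W))
    (hl : NonAbH1.IsLocallyTrivialFor Scheme.fpqcPrecoverage (Over.mk (toUnit W).left : Over (𝟙_ (Over T)).left)) :
    Nonempty (𝟙_ (Over T) ⟶ W) := by
  have hloc : NonAbH1.IsLocallyTrivialFor Scheme.fpqcPrecoverage W := by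
    obtain ⟨R, hR, hs⟩ := hl
    refine ⟨R, hR, fun T' f hf => ?_⟩
    obtain ⟨s, hs'⟩ := hs f hf
    exact ⟨s, (congrArg (s ≫ ·) ((Over.w (toUnit W)).symm.trans (Category.comp_id _))).trans hs'⟩
  let e' : Red.Ga T ≅ Q := (Grp.forget _).mapIso e.symm
  haveI : IsMonHom e'.hom := inferInstanceAs (IsMonHom e.inv.hom.hom)
  obtain ⟨s, hs⟩ := Groth.Agent.S6006.exists_section
    (a := b.restrict e'.hom) ⟨isIso_restrict e' b (isIso_shear_of_isPullback b hb), hloc⟩ ⊤ (isAffineOpen_top T)
  exact ⟨Over.homMk (T.topIso.inv ≫ s) (by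
    rw [Category.assoc, hs]
    exact T.topIso.inv_hom_id)⟩

/-- The fibre of a torsor over a section is a torsor. -/
theorem exists_fibre {T : Scheme.{u}} {N X W : Over T} [GrpObj N] (a : AlgGrp.Action N X) (φ : X ⟶ W)
    (hcart : IsPullback a.act (snd N X) φ φ) [Surjective φ.left] [Flat φ.left] [IsAffineHom φ.left]
    (w : 𝟙_ (Over T) ⟶ W) :
    ∃ (F : Over T) (b : AlgGrp.Action N F) (_ : F ⟶ X),
      IsPullback b.act (snd N F) (toUnit F) (toUnit F) ∧
      NonAbH1.IsLocallyTrivialFor Scheme.fpqcPrecoverage (Over.mk (toUnit F).left : Over (𝟙_ (Over T)).left) := by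
  let F := pullback φ w
  let j : F ⟶ X := pullback.fst φ w
  haveI : IsSplitMono w := ⟨⟨toUnit W, Subsingleton.elim _ _⟩⟩
  haveI : Mono j := inferInstance
  have sq : IsPullback j (toUnit F) φ w := by
    rw [toUnit_unique (toUnit F) (pullback.snd φ w)]
    exact IsPullback.of_hasPullback φ w
  have hj : ((N ◁ j) ≫ a.act) ≫ φ = toUnit (N ⊗ F) ≫ w := by
    rw [Category.assoc, hcart.w, whiskerLeft_snd_assoc, sq.w, ← Category.assoc]
    congr 1
    exact Subsingleton.elim _ _
  let act : N ⊗ F ⟶ F := sq.lift _ _ hj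
  have hact : act ≫ j = (N ◁ j) ≫ a.act := sq.lift_fst _ _ _
  let b : AlgGrp.Action N F :=
    { act := act
      one_act := by
        rw [← cancel_mono j, Category.assoc, hact, ← whisker_exchange_assoc, a.one_act, leftUnitor_naturality]
      mul_act := by
        rw [← cancel_mono j]
        simp only [Category.assoc, hact]
        rw [← whisker_exchange_assoc, a.mul_act, associator_naturality_right_assoc,
          ← whiskerLeft_comp_assoc, ← hact, whiskerLeft_comp_assoc]
        simp only [hact] }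
  refine ⟨F, b, j, IsPullback.of_isLimit' ⟨Subsingleton.elim _ _⟩ ?_, ?_⟩
  rotate_left
  · have hl : IsPullback j.left (toUnit F).left φ.left w.left := sq.map (Over.forget _)
    haveI : Surjective (toUnit F).left := MorphismProperty.of_isPullback hl ‹Surjective φ.left›
    haveI : Flat (toUnit F).left := MorphismProperty.of_isPullback hl ‹Flat φ.left›
    haveI : IsAffineHom (toUnit F).left := MorphismProperty.of_isPullback hl ‹IsAffineHom φ.left›
    exact GrothLib.CartTorsor.isLocallyTrivialFor_of_flat (toUnit F).left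
  refine PullbackCone.IsLimit.mk _
    (fun c => hcart.lift (c.fst ≫ j) (c.snd ≫ j) (by
      rw [Category.assoc, Category.assoc, sq.w, ← Category.assoc, ← Category.assoc]
      congr 1
      exact Subsingleton.elim _ _) |> fun l => lift (l ≫ fst N X) c.snd)
    (fun c => ?_) (fun c => lift_snd _ _) (fun c m h1 h2 => ?_)
  · rw [← cancel_mono j]
    show (lift _ c.snd ≫ act) ≫ j = c.fst ≫ j
    rw [Category.assoc, hact, lift_whiskerLeft_assoc]
    conv_lhs => enter [1, 2]; rw [← hcart.lift_snd (c.fst ≫ j) (c.snd ≫ j) (by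
      rw [Category.assoc, Category.assoc, sq.w, ← Category.assoc, ← Category.assoc]
      congr 1
      exact Subsingleton.elim _ _)]
    rw [← comp_lift, lift_fst_snd, Category.comp_id, hcart.lift_fst]
  · apply CartesianMonoidalCategory.hom_ext
    · rw [lift_fst]
      have e : m ≫ (N ◁ j) = hcart.lift (c.fst ≫ j) (c.snd ≫ j) (by
          rw [Category.assoc, Category.assoc, sq.w, ← Category.assoc, ← Category.assoc]
          congr 1
          exact Subsingleton.elim _ _) := by
        apply hcart.hom_ext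
        · have h1' : m ≫ act = c.fst := h1
          rw [hcart.lift_fst, Category.assoc, ← hact, ← Category.assoc, h1']
        · have h2' : m ≫ snd N F = c.snd := h2
          rw [hcart.lift_snd, Category.assoc, whiskerLeft_snd, ← Category.assoc, h2']
      rw [← e, Category.assoc, whiskerLeft_fst]
    · rw [lift_snd]; exact h2

variable {k : Type u} [Field k]

local notation "S₀" => Spec (CommRingCat.of k)

/-- Torsors over affine schemes are trivial. -/
def HasSec (N : Over S₀) [GrpObj N] : Prop :=
  ∀ (T : Scheme.{u}) (_ : IsAffine T) (σ : T ⟶ S₀) (X : Over T) (a : AlgGrp.Action (Red.bc σ N) X),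
    IsPullback a.act (snd (Red.bc σ N) X) (toUnit X) (toUnit X) →
    NonAbH1.IsLocallyTrivialFor Scheme.fpqcPrecoverage (Over.mk (toUnit X).left : Over (𝟙_ (Over T)).left) →
    Nonempty (𝟙_ (Over T) ⟶ X)

theorem hasSec_of_isIso (N : Over S₀) [GrpObj N] [IsIso N.hom] : HasSec N := by
  intro T hT σ X a hcart hloc
  let G := Red.bc σ N
  haveI : IsIso G.hom := MorphismProperty.pullback_snd (P := MorphismProperty.isomorphisms Scheme) N.hom σ ‹_›
  haveI : IsIso (toUnit G) := by
    haveI : IsIso (toUnit G).left := by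
      rw [toUnit_left]; infer_instance
    haveI : IsIso ((Over.forget _).map (toUnit G)) := ‹_›
    exact isIso_of_reflects_iso _ (Over.forget _)
  have hh : η[G] = inv (toUnit G) := by
    rw [← cancel_mono (toUnit G), IsIso.inv_hom_id]
    exact Subsingleton.elim _ _
  haveI : IsIso η[G] := by rw [hh]; infer_instance
  have hact : a.act = snd G X := by
    rw [← cancel_epi (η[G] ▷ X), a.one_act, whiskerRight_snd, leftUnitor_hom]
  haveI : Mono (toUnit X) := by
    refine ⟨fun {Z} u v _ => ?_⟩
    have e1 := hcart.lift_fst u v (Subsingleton.elim _ _)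
    have e2 := hcart.lift_snd u v (Subsingleton.elim _ _)
    exact e1.symm.trans ((congrArg (hcart.lift u v (Subsingleton.elim _ _) ≫ ·) hact).trans e2)
  obtain ⟨haff, hfl, hsj⟩ := GrothLib.CartTorsor.affine_flat hcart hloc
  haveI := haff; haveI := hfl; haveI := hsj
  haveI : Mono (toUnit X).left := inferInstanceAs (Mono ((Over.forget _).map (toUnit X)))
  haveI := Flat.isIso_of_surjective_of_mono (toUnit X).left
  haveI : IsIso ((Over.forget _).map (toUnit X)) := ‹IsIso (toUnit X).left›
  haveI : IsIso (toUnit X) := isIso_of_reflects_iso _ (Over.forget _)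
  exact ⟨inv (toUnit X)⟩

/-- Extensions of groups with trivial torsors by the additive group have trivial torsors. -/
theorem hasSec_of_step {N' N Q : Over S₀} [GrpObj N'] [GrpObj N] [IsCommMonObj N] [GrpObj Q] [IsAffine N'.left]
    [IsAffine N.left] [Smooth N.hom] [IsAffine Q.left] (i : N' ⟶ N) [IsMonHom i] (q : N ⟶ Q) [IsMonHom q]
    [Flat q.left] [Surjective q.left] (hker : AlgGrp.IsKernel i q) (e : Grp.mk Q ≅ Grp.mk (Red.Ga S₀))
    (hN' : HasSec N') : HasSec N := by
  intro T hT σ X a hcart hloc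
  let B := Red.bc σ N
  let B' := Red.bc σ N'
  let Q' := Red.bc σ Q
  haveI : IsAffineHom B.hom := MorphismProperty.pullback_snd N.hom σ (isAffineHom_of_isAffine _)
  haveI : IsAffineHom B'.hom := MorphismProperty.pullback_snd N'.hom σ (isAffineHom_of_isAffine _)
  haveI : IsAffineHom Q'.hom := MorphismProperty.pullback_snd Q.hom σ (isAffineHom_of_isAffine _)
  haveI : Smooth B.hom := MorphismProperty.pullback_snd N.hom σ ‹_›
  haveI : LocallyOfFinitePresentation B.hom := inferInstance
  haveI : Flat B.hom := inferInstance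
  haveI : Flat B'.hom := MorphismProperty.pullback_snd N'.hom σ (GrothLib.AlgSp.flat_to_field _)
  have hterm : σ ≫ Limits.IsTerminal.from specULiftZIsTerminal S₀ =
      Limits.IsTerminal.from specULiftZIsTerminal _ := specULiftZIsTerminal.hom_ext _ _
  let eQ : Grp.mk Q' ≅ Grp.mk (Red.Ga T) := ((Over.pullback σ).mapGrp.mapIso e).trans
    (GrothLib.DiagGrp.bcGrpComp Red.GaZ (Limits.IsTerminal.from specULiftZIsTerminal S₀) σ
      (Limits.IsTerminal.from specULiftZIsTerminal _) hterm.symm).symm
  let qb : B ⟶ Q' := (Over.pullback σ).map q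
  let ib : B' ⟶ B := (Over.pullback σ).map i
  haveI : IsMonHom qb := inferInstanceAs (IsMonHom ((Over.pullback σ).map q))
  haveI : IsMonHom ib := inferInstanceAs (IsMonHom ((Over.pullback σ).map i))
  haveI : Flat qb.left := property_bc_map @Flat σ q ‹_›
  haveI : Surjective qb.left := property_bc_map @Surjective σ q ‹_›
  haveI : IsAffineHom qb.left := property_bc_map @IsAffineHom σ q inferInstance
  obtain ⟨W, b, π₁, r, -, hb, hWloc, hπ, hπloc⟩ :=
    GrothLib.CartTorsor.exists_factor (G := B) (a := a) (isKernel_bc σ hker : AlgGrp.IsKernel ib qb) hcart hloc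
  rw [Subsingleton.elim r (toUnit W)] at hb hWloc
  obtain ⟨w⟩ := exists_point_of_Ga b eQ hb hWloc
  obtain ⟨hπa, hπf, hπs⟩ := GrothLib.CartTorsor.affine_flat hπ hπloc
  haveI := hπa; haveI := hπf; haveI := hπs
  obtain ⟨F, bF, jF, hcartF, hlocF⟩ := exists_fibre _ π₁ hπ w
  obtain ⟨pt⟩ := hN' T hT σ F bF hcartF hlocF
  exact ⟨pt ≫ jF⟩

/-- A group with trivial torsors over affine schemes splits off as a scheme from every extension of an affine group. -/
theorem nonempty_iso_tensor {N' N Q : Over S₀} [GrpObj N'] [GrpObj N] [IsCommMonObj N] [GrpObj Q] [IsAffine Q.left]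
    [IsAffine N.left] (i : N' ⟶ N) [IsMonHom i] (q : N ⟶ Q) [IsMonHom q]
    [Flat q.left] [Surjective q.left] (hker : AlgGrp.IsKernel i q) (hN' : HasSec N') :
    Nonempty (N ≅ N' ⊗ Q) := by
  haveI : Mono i := GrpDeligne.mono_of_isKernel hker
  let a := GrothLib.ExtTors24.action i q hker
  have hl : NonAbH1.IsLocallyTrivialFor Scheme.fpqcPrecoverage
      (Over.mk (toUnit (Over.mk q.left)).left : Over (𝟙_ (Over Q.left)).left) := by
    rw [toUnit_left]
    haveI : IsAffineHom q.left := inferInstance
    exact GrothLib.CartTorsor.isLocallyTrivialFor_of_flat q.left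
  obtain ⟨p⟩ := hN' Q.left ‹_› Q.hom (Over.mk q.left) a
    (isPullback_of_isIso_shear a (GrothLib.ExtTors24.isIso_shear i q hker)) hl
  have hp : p.left ≫ q.left = 𝟙 Q.left := Over.w p
  let s : Q ⟶ N := Over.homMk p.left (by rw [← Over.w q, reassoc_of% hp]; exact Category.id_comp _)
  have hs : s ≫ q = 𝟙 Q := Over.OverMorphism.ext hp
  obtain ⟨n, hn⟩ := GrpDeligne.exists_lift_ker hker (𝟙 N * (q ≫ s)⁻¹) (by
    rw [MonObj.mul_comp, GrpObj.inv_comp, Category.assoc, hs, Category.comp_id, Category.id_comp, mul_inv_cancel])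
  refine ⟨⟨lift n q, (fst N' Q ≫ i) * (snd N' Q ≫ s), ?_, ?_⟩⟩
  · rw [MonObj.comp_mul, lift_fst_assoc, lift_snd_assoc, hn, inv_mul_cancel_right]
  · have hq : ((fst N' Q ≫ i) * (snd N' Q ≫ s)) ≫ q = snd N' Q := by
      rw [MonObj.mul_comp, Category.assoc (fst N' Q), GrpDeligne.ker_comp_eq_one hker, MonObj.comp_one, _root_.one_mul, Category.assoc, hs, Category.comp_id]
    apply CartesianMonoidalCategory.hom_ext
    · rw [Category.assoc, lift_fst, Category.id_comp, ← cancel_mono i, Category.assoc, hn, MonObj.comp_mul,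
        Category.comp_id, GrpObj.comp_inv, reassoc_of% hq, mul_inv_cancel_right]
    · rw [Category.assoc, lift_snd, Category.id_comp, hq]

/-- Affine space over a field. -/
noncomputable abbrev affSp (k : Type u) [Field k] (n : ℕ) : Over (Spec (CommRingCat.of k)) :=
  Over.mk (Spec.map (CommRingCat.ofHom (algebraMap k (MvPolynomial (Fin n) k))))

theorem iso_affSp_of_algEquiv {A B : Type u} [CommRing A] [Algebra k A] [CommRing B] [Algebra k B] (e : A ≃ₐ[k] B) :
    Nonempty ((Over.mk (Spec.map (CommRingCat.ofHom (algebraMap k B))) : Over S₀) ≅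
      Over.mk (Spec.map (CommRingCat.ofHom (algebraMap k A)))) := by
  refine ⟨Over.isoMk (Scheme.Spec.mapIso e.toRingEquiv.toCommRingCatIso.op) ?_⟩
  show Spec.map (CommRingCat.ofHom (e : A →+* B)) ≫ Spec.map (CommRingCat.ofHom (algebraMap k A)) = _
  rw [← Spec.map_comp, ← CommRingCat.ofHom_comp]
  exact congrArg (fun f => Spec.map (CommRingCat.ofHom f)) (RingHom.ext e.commutes)

/-- Products of affine spaces. -/
theorem affSp_tensor (m n : ℕ) : Nonempty (affSp k m ⊗ affSp k n ≅ affSp k (m + n)) := by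
  let A := MvPolynomial (Fin m) k
  let B := MvPolynomial (Fin n) k
  obtain ⟨e₂⟩ := iso_affSp_of_algEquiv ((MvPolynomial.tensorEquivSum k (Fin m) (Fin n) k).trans
    (MvPolynomial.renameEquiv k finSumFinEquiv))
  let e₁ : affSp k m ⊗ affSp k n ≅ Over.mk (Spec.map (CommRingCat.ofHom (algebraMap k (A ⊗[k] B)))) :=
    Over.isoMk (pullbackSpecIso k A B) (by
      show (pullbackSpecIso k A B).hom ≫ Spec.map (CommRingCat.ofHom (algebraMap k (A ⊗[k] B))) =
        pullback.fst _ _ ≫ Spec.map (CommRingCat.ofHom (algebraMap k A))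
      rw [← cancel_epi (pullbackSpecIso k A B).inv, Iso.inv_hom_id_assoc, pullbackSpecIso_inv_fst_assoc, ← Spec.map_comp, ← CommRingCat.ofHom_comp]
      exact congrArg (fun f => Spec.map (CommRingCat.ofHom f)) (RingHom.ext fun x => rfl))
  exact ⟨e₁ ≪≫ e₂.symm⟩

variable [IsAlgClosed k]

/-- A group without subtori has no multiplicative quotient. -/
theorem not_iso_Gm_quotient (U : Over S₀) [GrpObj U] [IsCommMonObj U] [Smooth U.hom] [ConnectedSpace ↥U.left]
    [IsAffine U.left] (hU : Red.HasNoSubtorus k U) {Q : Over S₀} [GrpObj Q] (q : U ⟶ Q) [IsMonHom q]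
    [Surjective q.left] (eQ : Grp.mk Q ≅ Grp.mk (Red.Gm S₀)) : False := by
  haveI := IsogGaGm24.isIntegral_of_smooth U
  obtain ⟨A, _, _, ⟨e⟩⟩ := exists_hopf U (isAffineHom_of_isAffine _)
  haveI := TorusPrim24.isDomain_of_iso e
  haveI : Coalgebra.IsCocomm k A := TorusPrim24.isCocomm_of_iso e
  let iA : specGrp (R := k) A ≅ U := (Grp.forget _).mapIso e
  haveI : IsIso iA.hom.left := inferInstanceAs (IsIso ((Over.forget _).map iA.hom))
  haveI : Algebra.FiniteType k A := by
    have : LocallyOfFiniteType (specGrp (R := k) A).hom := by rw [← Over.w iA.hom]; infer_instance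
    exact RingHom.finiteType_algebraMap.1 ((HasRingHomProperty.Spec_iff (P := @LocallyOfFiniteType)).1 this)
  obtain ⟨eL⟩ := iso_Gm (k := k)
  let C := MonoidAlgebra k (Multiplicative ℤ)
  let qg : (hopfSpec (CommRingCat.of k)).obj (Opposite.op (CommHopfAlgCat.of k A)) ⟶
      (hopfSpec (CommRingCat.of k)).obj (Opposite.op (CommHopfAlgCat.of k C)) :=
    e.hom ≫ (Grp.ofHom q : Grp.mk U ⟶ Grp.mk Q) ≫ eQ.hom ≫ eL.inv
  haveI : (hopfSpec (CommRingCat.of k)).Full := hopfSpec.instFull
  obtain ⟨ω, hω⟩ := (hopfSpec (CommRingCat.of k)).map_surjective qg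
  let φA : C →ₐc[k] A := ω.unop.hom
  let eq' : Q ≅ specGrp (R := k) C := (Grp.forget _).mapIso (eQ ≪≫ eL.symm)
  haveI : IsIso eq'.hom.left := inferInstanceAs (IsIso ((Over.forget _).map eq'.hom))
  have h1 : Spec.map (CommRingCat.ofHom (φA : C →+* A)) = iA.hom.left ≫ q.left ≫ eq'.hom.left :=
    congrArg (fun w => w.hom.hom.left) hω
  haveI : Surjective (Spec.map (CommRingCat.ofHom (φA : C →+* A))) := by rw [h1]; infer_instance
  have hx : IsGroupLikeElem k (φA (MonoidAlgebra.single (Multiplicative.ofAdd (1 : ℤ)) 1)) :=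
    (MonoidAlgebra.isGroupLikeElem_single_one _).map φA
  by_cases hx1 : φA (MonoidAlgebra.single (Multiplicative.ofAdd (1 : ℤ)) 1) = 1
  · -- the homomorphism is trivial, hence not surjective
    have hall : (φA : C →ₐ[k] A) = (Algebra.ofId k A).comp (Bialgebra.counitAlgHom k C) := by
      apply MonoidAlgebra.algHom_ext
      intro m
      show φA (MonoidAlgebra.single m 1) = algebraMap k A (Coalgebra.counit (R := k) (MonoidAlgebra.single m (1 : k)))
      rw [(MonoidAlgebra.isGroupLikeElem_single_one m).counit_eq_one, map_one]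
      let ν : Multiplicative ℤ →* A := (φA : C →* A).comp (MonoidAlgebra.of k (Multiplicative ℤ))
      have hν : ν.toHomUnits = 1 := MonoidHom.ext_mint (Units.ext hx1)
      exact congrArg (fun f : Multiplicative ℤ →* Aˣ => ((f m : Aˣ) : A)) hν
      exact Subsingleton.elim _ _
    have hfac : Spec.map (CommRingCat.ofHom (φA : C →+* A)) = Spec.map (CommRingCat.ofHom (algebraMap k A)) ≫
        Spec.map (CommRingCat.ofHom ((Bialgebra.counitAlgHom k C) : C →+* k)) := by
      rw [← Spec.map_comp, ← CommRingCat.ofHom_comp]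
      exact congrArg (fun f => Spec.map (CommRingCat.ofHom f)) (RingHom.ext fun z => congrArg (fun f => f z) hall)
    haveI : Subsingleton (PrimeSpectrum C) := by
      refine ⟨fun P P' => ?_⟩
      obtain ⟨z, rfl⟩ := (Spec.map (CommRingCat.ofHom (φA : C →+* A))).surjective P
      obtain ⟨z', rfl⟩ := (Spec.map (CommRingCat.ofHom (φA : C →+* A))).surjective P'
      rw [hfac, Scheme.Hom.comp_apply, Scheme.Hom.comp_apply]
      congr 1
      exact Subsingleton.elim (α := PrimeSpectrum k) _ _
    exact not_subsingleton_spec_laurent this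
  · obtain ⟨φ, hφ⟩ := exists_surjective_laurent hx hx1
    let hg : Grp.mk (specGrp (R := k) C) ⟶ Grp.mk (specGrp (R := k) A) :=
      (hopfSpec (CommRingCat.of k)).map (X := Opposite.op (CommHopfAlgCat.of k C))
        (Y := Opposite.op (CommHopfAlgCat.of k A)) (CommHopfAlgCat.ofHom φ).op
    let jg : Grp.mk (Red.Gm S₀) ⟶ Grp.mk U := eL.inv ≫ hg ≫ e.hom
    haveI : IsMonHom jg.hom.hom := jg.hom.isMonHom_hom
    haveI : IsClosedImmersion hg.hom.hom.left := by
      show IsClosedImmersion (Spec.map (CommRingCat.ofHom (φ : A →+* C)))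
      exact IsClosedImmersion.spec_of_surjective _ hφ
    haveI : IsIso eL.inv.hom.hom.left :=
      inferInstanceAs (IsIso ((Grp.forget _ ⋙ Over.forget _).map eL.inv))
    haveI : IsClosedImmersion jg.hom.hom.left :=
      inferInstanceAs (IsClosedImmersion (eL.inv.hom.hom.left ≫ hg.hom.hom.left ≫ iA.hom.left))
    haveI : Mono jg.hom.hom := (Over.forget _).mono_of_mono_map (inferInstanceAs (Mono jg.hom.hom.left))
    haveI hiso : IsIso (Red.Gm S₀).hom := hU (Red.Gm S₀) jg.hom.hom (GrothLib.RankCell14.isTorus_Gm S₀)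
    refine not_subsingleton_spec_laurent ⟨fun P P' => ?_⟩
    have hinj : Function.Injective (eL.hom.hom.hom.left ≫ (Red.Gm S₀).hom) := by
      haveI : IsIso eL.hom.hom.hom.left :=
        inferInstanceAs (IsIso ((Grp.forget _ ⋙ Over.forget _).map eL.hom))
      exact (eL.hom.hom.hom.left ≫ (Red.Gm S₀).hom).homeomorph.injective
    exact hinj (Subsingleton.elim (α := PrimeSpectrum k) _ _)
where
  not_subsingleton_spec_laurent :
      ¬ Subsingleton (PrimeSpectrum (MonoidAlgebra k (Multiplicative ℤ))) := by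
    intro h
    haveI := h
    let C := MonoidAlgebra k (Multiplicative ℤ)
    haveI : Ring.KrullDimLE 0 C := Ring.KrullDimLE.mk₀ fun I hI => by
      obtain ⟨M, hM, hIM⟩ := Ideal.exists_le_maximal I hI.ne_top
      have := congrArg PrimeSpectrum.asIdeal (Subsingleton.elim (⟨I, hI⟩ : PrimeSpectrum C) ⟨M, hM.isPrime⟩)
      exact (show I = M from this) ▸ hM
    letI := (Ring.KrullDimLE.isField_of_isDomain (R := C)).toField
    exact not_finite_line (k := k) (Or.inr ⟨BialgEquiv.refl k C⟩) (finite_of_finite_type_of_isJacobsonRing k C)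

/-- A connected commutative unipotent group is an affine space and has trivial torsors over affine schemes. -/
theorem main (U : Over S₀) [GrpObj U] [IsCommMonObj U] [Smooth U.hom] [ConnectedSpace ↥U.left] [IsAffine U.left]
    (hU : Red.HasNoSubtorus k U) : HasSec U ∧ ∃ n, Nonempty (U ≅ affSp k n) := by
  classical
  haveI : IsLocallyNoetherian U.left := LocallyOfFiniteType.isLocallyNoetherian U.hom
  haveI : IsNoetherian U.left := {}
  suffices H : ∀ (Z : TopologicalSpace.Closeds U.left), ∀ (N : Over S₀) [GrpObj N] [IsCommMonObj N] [Smooth N.hom]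
      [ConnectedSpace ↥N.left] [IsAffine N.left] (j : N ⟶ U), IsClosedImmersion j.left →
      Set.range j.left = (Z : Set U.left) → Red.HasNoSubtorus k N → HasSec N ∧ ∃ n, Nonempty (N ≅ affSp k n) by
    refine H ⊤ U (𝟙 U) (inferInstanceAs (IsClosedImmersion (𝟙 U.left))) ?_ hU
    exact Set.range_eq_univ.2 fun x => ⟨x, rfl⟩
  intro Z
  induction Z using WellFoundedLT.induction with
  | ind Z ih =>
    intro N _ _ _ _ _ j hj hZ hN0
    haveI := hj
    haveI := IsogGaGm24.isIntegral_of_smooth N
    by_cases hN : Subsingleton N.left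
    · haveI : Subsingleton ↥(𝟙_ (Over S₀)).left := inferInstanceAs (Subsingleton (PrimeSpectrum k))
      haveI : IsClosedImmersion η[N].left := by
        haveI : IsClosedImmersion (η[N].left ≫ N.hom) := by
          rw [Over.w]; exact inferInstanceAs (IsClosedImmersion (𝟙 S₀))
        haveI : IsSeparated N.hom := GrothLib.GrpSchField.isSeparated N
        exact IsClosedImmersion.of_comp _ N.hom
      haveI : Surjective η[N].left := ⟨fun z => ⟨IsLocalRing.closedPoint k, Subsingleton.elim _ _⟩⟩
      haveI := isIso_of_isClosedImmersion_of_surjective η[N].left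
      haveI : IsIso N.hom := by
        haveI : IsIso (η[N].left ≫ N.hom) := by rw [Over.w]; exact inferInstanceAs (IsIso (𝟙 S₀))
        exact IsIso.of_isIso_comp_left η[N].left N.hom
      refine ⟨hasSec_of_isIso N, 0, ?_⟩
      haveI : IsIso (affSp k 0).hom := by
        show IsIso (Spec.map (CommRingCat.ofHom (algebraMap k (MvPolynomial (Fin 0) k))))
        haveI : IsIso (CommRingCat.ofHom (algebraMap k (MvPolynomial (Fin 0) k))) :=
          (MvPolynomial.isEmptyAlgEquiv k (Fin 0)).symm.toRingEquiv.toCommRingCatIso.isIso_hom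
        infer_instance
      exact ⟨Over.isoMk (asIso N.hom ≪≫ (asIso (affSp k 0).hom).symm) (by simp)⟩
    obtain ⟨N', _, _, i, Q, _, q, _, _, _, _, _, hne, _, hqf, hqs, hker, hQ⟩ := exists_step N hN
    rcases hQ with ⟨⟨eQ⟩⟩ | ⟨⟨eQ⟩⟩
    swap
    · exact (not_iso_Gm_quotient N hN0 q eQ).elim
    haveI : Mono i := GrpDeligne.mono_of_isKernel hker
    have hlt : (⟨Set.range (i ≫ j).left, by
        haveI : IsClosedImmersion (i ≫ j).left := by rw [Over.comp_left]; infer_instance
        exact (i ≫ j).left.isClosedEmbedding.isClosed_range⟩ : TopologicalSpace.Closeds U.left) < Z := by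
      rw [← SetLike.coe_ssubset_coe]
      show Set.range (i ≫ j).left ⊂ (Z : Set U.left)
      rw [← hZ, Over.comp_left, Scheme.Hom.comp_base, TopCat.coe_comp, Set.range_comp,
        ← Set.image_univ (f := j.left)]
      refine j.left.isClosedEmbedding.injective.image_strictMono ?_
      exact Set.ssubset_univ_iff.2 hne
    have hN'0 : Red.HasNoSubtorus k N' := fun T _ t _ _ hT => by
      haveI : IsMonHom (t ≫ i) := inferInstance
      exact hN0 T (t ≫ i) hT
    obtain ⟨hsec, m, ⟨eN'⟩⟩ := ih _ hlt N' (i ≫ j) (by rw [Over.comp_left]; infer_instance) rfl hN'0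
    obtain ⟨eG⟩ := iso_Ga (k := k)
    let eQ' : Q ≅ specGrp (R := k) (SymmetricAlgebra k k) := (Grp.forget _).mapIso (eQ ≪≫ eG.symm)
    haveI : IsIso eQ'.hom.left := inferInstanceAs (IsIso ((Over.forget _).map eQ'.hom))
    haveI : IsAffine (specGrp (R := k) (SymmetricAlgebra k k)).left := isAffine_Spec _
    haveI : IsAffine Q.left := .of_isIso eQ'.hom.left
    refine ⟨hasSec_of_step i q hker eQ hsec, m + 1, ?_⟩
    obtain ⟨e₁⟩ := nonempty_iso_tensor i q hker hsec
    obtain ⟨e₂⟩ := iso_affSp_of_algEquiv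
      ((SymmetricAlgebra.equivMvPolynomial (Module.Basis.singleton (Fin 1) k)))
    obtain ⟨e₃⟩ := affSp_tensor (k := k) m 1
    exact ⟨e₁ ≪≫ tensorIso eN' (eQ' ≪≫ e₂.symm) ≪≫ e₃⟩

end GrothLib.UnipSplit24
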