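import Groth.Agent.Lib.UnipSplit24.Exponent
import Groth.Agent.Lib.Cube.MulFinite
import Groth.Agent.S18068
import Groth.Agent.S18069
import Groth.Agent.Lib.AbMul.Etale

/-!
# Extensions of abelian varieties by unipotent groups in positive characteristic
-/

set_option autoImplicit false
set_option linter.all false
set_option backward.isDefEq.respectTransparency false

universe u

open CategoryTheory CategoryTheory.Limits MonoidalCategory CartesianMonoidalCategory MonObj GrpObj AlgebraicGeometry

namespace GrothLib.UnipSplit24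

variable {k : Type u} [Field k] [IsAlgClosed k]

local notation "S₀" => Spec (CommRingCat.of k)

/-- A homomorphism with finitely many points in its kernel onto a reduced group is finite if proper or affine. -/
theorem isFinite_kernel_of_finite_points {M G H : Over S₀} [GrpObj H] (f : G ⟶ H) (j : M ⟶ G)
    (hj : AlgGrp.IsKernel j f) [LocallyOfFiniteType G.hom] [QuasiCompact G.hom] [IsSeparated H.hom]
    (hfin : (Set.univ : Set (𝟙_ (Over S₀) ⟶ M)).Finite) : IsFinite M.hom := by
  haveI : IsClosedImmersion η[H].left := by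
    haveI : IsClosedImmersion (η[H].left ≫ H.hom) := by
      rw [Over.w]; exact inferInstanceAs (IsClosedImmersion (𝟙 S₀))
    exact IsClosedImmersion.of_comp _ H.hom
  haveI : IsClosedImmersion j.left :=
    MorphismProperty.of_isPullback ((IsPullback.map (Over.forget S₀) hj)).flip ‹IsClosedImmersion η[H].left›
  haveI : LocallyOfFiniteType M.hom := by rw [← Over.w j]; infer_instance
  haveI : QuasiCompact M.hom := by rw [← Over.w j]; infer_instance
  haveI : JacobsonSpace M.left := LocallyOfFiniteType.jacobsonSpace (Y := Spec _) M.hom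
  haveI : Subsingleton ↥S₀ := inferInstanceAs (Subsingleton (PrimeSpectrum k))
  haveI : LocallyQuasiFinite M.hom := by
    refine FixQuot24.locallyQuasiFinite_of_closedPoints M.hom (fun x _ => ?_) (fun x _ => ?_)
    · rw [show ({M.hom x} : Set ↥S₀) = Set.univ from Set.eq_univ_of_forall fun z => Subsingleton.elim _ _]
      exact isClosed_univ
    · refine (hfin.image fun m => m.left (IsLocalRing.closedPoint k)).subset fun y hy => ?_
      obtain ⟨m, hm⟩ := Rigidity.exists_point_over M y hy.1
      exact ⟨m, trivial, hm⟩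
  haveI : IsLocallyArtinian S₀ := inferInstance
  exact IsFinite.of_locallyQuasiFinite M.hom

/-- Global functions of a proper connected reduced group are constant. -/
theorem antiAffine_abVar (A : Over S₀) [IsProper A.hom] [GeometricallyIntegral A.hom] :
    Function.Bijective ((Scheme.ΓSpecIso (CommRingCat.of k)).inv ≫ A.hom.appTop).hom := by
  haveI : IsIntegral A.left := GeometricallyIntegral.isIntegral_of_subsingleton A.hom
  refine ⟨RingHom.injective _, fun x => ?_⟩
  have hfin := finite_appTop_of_universallyClosed k A.hom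
  let φ := ((Scheme.ΓSpecIso (CommRingCat.of k)).inv ≫ A.hom.appTop).hom
  have hφ : φ.Finite := hfin.comp (RingHom.Finite.of_surjective (Scheme.ΓSpecIso (CommRingCat.of k)).inv.hom (ConcreteCategory.bijective_of_isIso (Scheme.ΓSpecIso (CommRingCat.of k)).inv).2)
  letI := φ.toAlgebra
  haveI : Module.Finite k Γ(A.left, ⊤) := hφ
  exact (IsAlgClosed.algebraMap_bijective_of_isIntegral (k := k) (K := Γ(A.left, ⊤))).2 x

/-- An anti-affine affine scheme with a point is a point. -/
theorem isIso_of_antiAffine_affine (U : Over S₀) [IsAffine U.left]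
    (h : Function.Bijective ((Scheme.ΓSpecIso (CommRingCat.of k)).inv ≫ U.hom.appTop).hom) : IsIso U.hom := by
  haveI : IsIso ((Scheme.ΓSpecIso (CommRingCat.of k)).inv ≫ U.hom.appTop) :=
    (ConcreteCategory.isIso_iff_bijective _).2 h
  haveI : IsIso U.hom.appTop := IsIso.of_isIso_comp_left (Scheme.ΓSpecIso (CommRingCat.of k)).inv _
  haveI : IsIso (Spec.map U.hom.appTop) := inferInstance
  have e : U.hom = U.left.isoSpec.hom ≫ Spec.map U.hom.appTop ≫ (S₀).isoSpec.inv := by
    rw [Scheme.isoSpec_hom_naturality_assoc, Iso.hom_inv_id, Category.comp_id]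
  rw [e]; infer_instance

/-- In positive characteristic, an extension of an abelian variety by a unipotent group is anti-affine only if the
unipotent group is trivial. -/
theorem antiAffine_iff (p : ℕ) [Fact p.Prime] [CharP k p] (G : Over S₀) [GrpObj G] [Smooth G.hom]
    [QuasiCompact G.hom] [ConnectedSpace ↥G.left] [IsCommMonObj G]
    (U : Over S₀) [GrpObj U] (i : U ⟶ G) [IsMonHom i] [IsClosedImmersion i.left]
    [Smooth U.hom] [ConnectedSpace ↥U.left] [IsAffine U.left] (hU : Red.HasNoSubtorus k U)
    (A : Over S₀) [GrpObj A] [IsProper A.hom] [Smooth A.hom] [ConnectedSpace ↥A.left]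
    (α : G ⟶ A) [IsMonHom α] [Surjective α.left] [Flat α.left] (hker : AlgGrp.IsKernel i α) :
    Function.Bijective ((Scheme.ΓSpecIso (CommRingCat.of k)).inv ≫ G.hom.appTop).hom ↔ IsIso U.hom := by
  classical
  haveI := GrothLib.Neutral.geometricallyConnected_of_point A.hom (η[A] : 𝟙_ _ ⟶ A).left (Over.w _)
  haveI := GrothLib.Rigidity.geometricallyIntegral_of_smooth A
  haveI := GrothLib.Neutral.geometricallyConnected_of_point U.hom (η[U] : 𝟙_ _ ⟶ U).left (Over.w _)
  haveI := GrothLib.Rigidity.geometricallyIntegral_of_smooth U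
  haveI : IsCommMonObj A := isCommMonObj_of_isProper_of_geometricallyIntegral A
  haveI : Mono i := (Over.forget _).mono_of_mono_map (inferInstanceAs (Mono i.left))
  haveI : IsCommMonObj U := by
    refine ⟨?_⟩
    rw [← cancel_mono i, Category.assoc, IsMonHom.mul_hom, ← Category.assoc, ← BraidedCategory.braiding_naturality,
      Category.assoc, IsCommMonObj.mul_comm]
  haveI : QuasiCompact U.hom := inferInstance
  obtain ⟨m, -, hm⟩ := exists_pow_eq_one p U hU
  let N := p ^ m
  have hN : N ≠ 0 := pow_ne_zero _ (Fact.out : p.Prime).ne_zero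
  haveI : QuasiCompact α.left := by
    haveI : QuasiCompact (α.left ≫ A.hom) := by rw [Over.w α]; infer_instance
    exact QuasiCompact.of_comp α.left A.hom
  have hiN : i ≫ ((𝟙 G) ^ N) = 1 := by
    rw [MonObj.comp_pow, Category.comp_id, ← Category.id_comp i, ← MonObj.pow_comp, hm, MonObj.one_comp]
  haveI : IsMonHom ((𝟙 G) ^ N) := by rw [← zpow_natCast]; exact GrothLib.AbMul.isMonHom_zpow G _
  obtain ⟨g, _, hg⟩ := GrpDeligne.exists_factor α i hker ((𝟙 G) ^ N) hiN
  have hgα : g ≫ α = (𝟙 A) ^ N := by
    haveI : Epi α.left := Flat.epi_of_flat_of_surjective _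
    haveI : Epi α := (Over.forget _).epi_of_epi_map (inferInstanceAs (Epi α.left))
    rw [← cancel_epi α, reassoc_of% hg, MonObj.pow_comp, Category.id_comp, MonObj.comp_pow, Category.comp_id]
  let ψ : U ⊗ A ⟶ G := (fst U A ≫ i) * (snd U A ≫ g)
  haveI : IsMonHom (fst U A) := inferInstance
  haveI : IsMonHom (snd U A) := inferInstance
  haveI : IsMonHom ψ := inferInstanceAs (IsMonHom (lift (fst U A ≫ i) (snd U A ≫ g) ≫ μ[G]))
  have hψα : ψ ≫ α = (snd U A) ^ N := by
    rw [MonObj.mul_comp, Category.assoc, GrpDeligne.ker_comp_eq_one hker, MonObj.comp_one, _root_.one_mul,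
      Category.assoc, hgα, MonObj.comp_pow, Category.comp_id]
  -- finiteness data
  haveI : Smooth (U ⊗ A).hom :=
    inferInstanceAs (Smooth (Limits.pullback.fst U.hom A.hom ≫ U.hom))
  haveI : QuasiCompact (U ⊗ A).hom :=
    inferInstanceAs (QuasiCompact (Limits.pullback.fst U.hom A.hom ≫ U.hom))
  haveI : IsLocallyNoetherian A.left := LocallyOfFiniteType.isLocallyNoetherian A.hom
  haveI : IsIntegral A.left := GeometricallyIntegral.isIntegral_of_subsingleton A.hom
  haveI : IsIntegral (U ⊗ A).left := inferInstanceAs (IsIntegral (Limits.pullback U.hom A.hom))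
  haveI : ConnectedSpace ↥(U ⊗ A).left := inferInstance
  haveI := IsogGaGm24.isIntegral_of_smooth G
  haveI : QuasiCompact ψ.left := by
    haveI : QuasiCompact (ψ.left ≫ G.hom) := by rw [Over.w ψ]; infer_instance
    haveI : IsSeparated G.hom := GrothLib.GrpSchField.isSeparated G
    exact QuasiCompact.of_comp ψ.left G.hom
  let p₀ : ↥(𝟙_ (Over S₀)).left := IsLocalRing.closedPoint k
  haveI hsurjN : Surjective ((𝟙 A) ^ N).left := GrothLib.Cube.surjective_pow A hN
  haveI hfinN : IsFinite ((𝟙 A) ^ N).left := GrothLib.Cube.isFinite_pow A hN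
  haveI : JacobsonSpace G.left := LocallyOfFiniteType.jacobsonSpace (Y := Spec _) G.hom
  haveI : JacobsonSpace A.left := LocallyOfFiniteType.jacobsonSpace (Y := Spec _) A.hom
  haveI : Surjective ψ.left := by
    refine ⟨fun z => ?_⟩
    by_contra hz
    have hcl := (NeronCompGrp24.isClosed_range_hom ψ).isOpen_compl
    obtain ⟨y, hy, hyc⟩ := nonempty_inter_closedPoints (Z := (Set.range ψ.left)ᶜ) ⟨z, fun h => hz h⟩
      hcl.isLocallyClosed
    obtain ⟨c, hc⟩ := Rigidity.exists_point_over G y hyc
    obtain ⟨w, hw⟩ := ((𝟙 A) ^ N).left.surjective ((c ≫ α).left p₀)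
    obtain ⟨w', hw', hwc⟩ := nonempty_inter_closedPoints (Z := ((𝟙 A) ^ N).left ⁻¹' {(c ≫ α).left p₀}) ⟨w, hw⟩
      ((GrothLib.SplitTors24.exists_finite_reps.isClosed_singleton_pt (c ≫ α)).preimage ((𝟙 A) ^ N).left.continuous).isLocallyClosed
    obtain ⟨a, ha⟩ := Rigidity.exists_point_over A w' hwc
    have haN : a ≫ ((𝟙 A) ^ N) = c ≫ α := NeronCompGrp24.pt_ext _ _ (by
      show (a ≫ ((𝟙 A) ^ N)).left p₀ = _
      rw [Over.comp_left, Scheme.Hom.comp_apply, ha]
      exact hw')
    obtain ⟨u, hu⟩ := GrpDeligne.exists_lift_ker hker (c * (a ≫ g)⁻¹) (by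
      rw [MonObj.mul_comp, GrpObj.inv_comp, Category.assoc, hgα, haN, mul_inv_cancel])
    have e : lift u a ≫ ψ = c := by
      rw [MonObj.comp_mul, lift_fst_assoc, lift_snd_assoc, hu, inv_mul_cancel_right]
    exact hy ⟨(lift u a).left p₀, by rw [← Scheme.Hom.comp_apply, ← Over.comp_left, e, hc]⟩
  haveI : IsLocallyNoetherian G.left := LocallyOfFiniteType.isLocallyNoetherian G.hom
  haveI : IsFinite ψ.left := by
    have hj : AlgGrp.IsKernel (pullback.fst ψ η[G]) ψ := by
      have := IsPullback.of_hasPullback ψ η[G]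
      rwa [toUnit_unique (pullback.snd ψ η[G]) (toUnit _)] at this
    let M := pullback ψ η[G]
    let j : M ⟶ U ⊗ A := pullback.fst ψ η[G]
    haveI : IsSeparated G.hom := GrothLib.GrpSchField.isSeparated G
    haveI : Mono j := GrpDeligne.mono_of_isKernel hj
    have hfin : (Set.univ : Set (𝟙_ (Over S₀) ⟶ M)).Finite := by
      have hA : ({a : 𝟙_ (Over S₀) ⟶ A | a ≫ ((𝟙 A) ^ N) = 1}).Finite := by
        refine Set.Finite.of_finite_image (f := fun a => a.left p₀)
          (((((𝟙 A) ^ N).left.finite_preimage_singleton ((1 : 𝟙_ (Over S₀) ⟶ A).left p₀))).subset ?_)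
          (fun a _ b _ h => NeronCompGrp24.pt_ext a b h)
        rintro _ ⟨a, ha, rfl⟩
        show ((𝟙 A) ^ N).left (a.left p₀) = _
        rw [← Scheme.Hom.comp_apply, ← Over.comp_left, ha]
      refine Set.Finite.of_finite_image (f := fun m => m ≫ j ≫ snd U A) (hA.subset ?_) ?_
      · rintro _ ⟨x, -, rfl⟩
        show (x ≫ j ≫ snd U A) ≫ ((𝟙 A) ^ N) = 1
        rw [Category.assoc, Category.assoc, MonObj.comp_pow, Category.comp_id, ← hψα, reassoc_of% (GrpDeligne.ker_comp_eq_one hj : j ≫ ψ = 1),
          MonObj.one_comp, MonObj.comp_one]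
      · intro x _ y _ h
        have e1 : ∀ z : 𝟙_ (Over S₀) ⟶ M, (z ≫ j ≫ fst U A) ≫ i = ((z ≫ j ≫ snd U A) ≫ g)⁻¹ := fun z => by
          apply eq_inv_of_mul_eq_one_left
          have h := congrArg (z ≫ ·) (GrpDeligne.ker_comp_eq_one hj : j ≫ ψ = 1)
          simp only [MonObj.comp_mul, MonObj.comp_one, ψ] at h
          simpa only [Category.assoc] using h
        refine (cancel_mono j).1 (CartesianMonoidalCategory.hom_ext _ _ ?_ (by simpa only [Category.assoc] using h))
        rw [Category.assoc, Category.assoc, ← cancel_mono i, e1, e1]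
        exact congrArg (fun w => (w ≫ g)⁻¹) h
    haveI : IsFinite M.hom := isFinite_kernel_of_finite_points ψ j hj hfin
    haveI : Flat ψ.left := GrpSchField.flat_hom ψ
    haveI : LocallyOfFiniteType ψ.left := by
      haveI : LocallyOfFiniteType (ψ.left ≫ G.hom) := by rw [Over.w ψ]; infer_instance
      exact locallyOfFiniteType_of_comp ψ.left G.hom
    have sq := (Rigidity.isPullback_kernelPair ψ _ hj).map (Over.forget S₀)
    haveI : IsFinite (snd M (U ⊗ A)).left :=
      inferInstanceAs (IsFinite (Limits.pullback.snd M.hom (U ⊗ A).hom))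
    exact AlgSp.fppfDescends_isFinite _ _ _ _ sq ‹Flat ψ.left›
      (inferInstance : LocallyOfFinitePresentation ψ.left) ‹Surjective ψ.left› ‹_›
  rw [← Groth.Agent.S18068.result k (U ⊗ A) G ψ, Groth.Agent.S18069.result k U A]
  refine ⟨fun h => isIso_of_antiAffine_affine U h.1, fun h => ⟨?_, antiAffine_abVar A⟩⟩
  haveI := h
  haveI : IsProper U.hom := inferInstance
  exact antiAffine_abVar U

end GrothLib.UnipSplit24
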