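import Groth.Agent.Lib.UnipSplit24.Sections
import Mathlib.RingTheory.KrullDimension.Polynomial

/-!
# The exponent of a connected commutative unipotent group in positive characteristic
-/

set_option autoImplicit false
set_option linter.all false
set_option backward.isDefEq.respectTransparency false

universe u

open CategoryTheory CategoryTheory.Limits MonoidalCategory CartesianMonoidalCategory MonObj GrpObj AlgebraicGeometry

namespace GrothLib.UnipSplit24

open GrothLib.MultHopf14 GrothLib.SplitTors24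

variable {k : Type u} [Field k]

local notation "S₀" => Spec (CommRingCat.of k)

/-- The additive group is killed by the characteristic. -/
theorem pow_Ga (p : ℕ) [CharP k p] {X : Over S₀} (x : X ⟶ Red.Ga S₀) : x ^ p = 1 := by
  have h0 : (p : Γ(X.left, ⊤)) = 0 := by
    have h := congrArg ((Scheme.ΓSpecIso (CommRingCat.of k)).inv ≫ X.hom.appTop).hom (CharP.cast_eq_zero k p)
    rwa [map_natCast, map_zero] at h
  apply GrothLib.RedPts.gaFn_injective
  rw [GrothLib.RedPts.gaFn_one]
  have hpow : ∀ n : ℕ, Red.gaFn (x ^ n) = (n : Γ(X.left, ⊤)) * Red.gaFn x := by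
    intro n
    induction n with
    | zero => rw [pow_zero, GrothLib.RedPts.gaFn_one, Nat.cast_zero, zero_mul]
    | succ n ih => rw [pow_succ, GrothLib.RedPts.gaFn_mul, ih, Nat.cast_succ, add_mul, _root_.one_mul]
  rw [hpow, h0, zero_mul]

theorem dim_affSp (n : ℕ) : topologicalKrullDim ↥(affSp k n).left = n := by
  show topologicalKrullDim (PrimeSpectrum (MvPolynomial (Fin n) k)) = _
  rw [PrimeSpectrum.topologicalKrullDim_eq_ringKrullDim, MvPolynomial.ringKrullDim_of_isNoetherianRing,
    ringKrullDim_eq_zero_of_field, zero_add, Nat.card_eq_fintype_card, Fintype.card_fin]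

theorem dim_eq_of_iso {U : Over S₀} {n : ℕ} (e : U ≅ affSp k n) : topologicalKrullDim ↥U.left = n := by
  haveI : IsIso e.hom.left := inferInstanceAs (IsIso ((Over.forget _).map e.hom))
  exact (IsHomeomorph.topologicalKrullDim_eq _ e.hom.left.homeomorph.isHomeomorph).trans (dim_affSp n)

variable [IsAlgClosed k]

/-- A connected commutative unipotent group is killed by the power of the characteristic given by its dimension. -/
theorem exists_pow_eq_one (p : ℕ) [CharP k p] (U : Over S₀) [GrpObj U] [IsCommMonObj U] [Smooth U.hom]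
    [ConnectedSpace ↥U.left] [IsAffine U.left] (hU : Red.HasNoSubtorus k U) :
    ∃ n, Nonempty (U ≅ affSp k n) ∧ (𝟙 U) ^ (p ^ n) = 1 := by
  classical
  haveI : IsLocallyNoetherian U.left := LocallyOfFiniteType.isLocallyNoetherian U.hom
  haveI : IsNoetherian U.left := {}
  suffices H : ∀ (Z : TopologicalSpace.Closeds U.left), ∀ (N : Over S₀) [GrpObj N] [IsCommMonObj N] [Smooth N.hom]
      [ConnectedSpace ↥N.left] [IsAffine N.left] (j : N ⟶ U), IsClosedImmersion j.left →
      Set.range j.left = (Z : Set U.left) → Red.HasNoSubtorus k N →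
      ∃ n, Nonempty (N ≅ affSp k n) ∧ (𝟙 N) ^ (p ^ n) = 1 by
    refine H ⊤ U (𝟙 U) (inferInstanceAs (IsClosedImmersion (𝟙 U.left))) ?_ hU
    exact Set.range_eq_univ.2 fun x => ⟨x, rfl⟩
  intro Z
  induction Z using WellFoundedLT.induction with
  | ind Z ih =>
    intro N _ _ _ _ _ j hj hZ hN0
    haveI := hj
    haveI := IsogGaGm24.isIntegral_of_smooth N
    by_cases hN : Subsingleton N.left
    · obtain ⟨-, n, ⟨e⟩⟩ := main N hN0
      refine ⟨n, ⟨e⟩, ?_⟩
      haveI : Subsingleton ↥(𝟙_ (Over S₀)).left := inferInstanceAs (Subsingleton (PrimeSpectrum k))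
      haveI : IsClosedImmersion η[N].left := by
        haveI : IsClosedImmersion (η[N].left ≫ N.hom) := by
          rw [Over.w]; exact inferInstanceAs (IsClosedImmersion (𝟙 S₀))
        haveI : IsSeparated N.hom := GrothLib.GrpSchField.isSeparated N
        exact IsClosedImmersion.of_comp _ N.hom
      haveI : Surjective η[N].left := ⟨fun z => ⟨IsLocalRing.closedPoint k, Subsingleton.elim _ _⟩⟩
      haveI := isIso_of_isClosedImmersion_of_surjective η[N].left
      haveI : IsIso ((Over.forget _).map η[N]) := ‹IsIso η[N].left›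
      haveI : IsIso η[N] := isIso_of_reflects_iso _ (Over.forget _)
      rw [← cancel_epi η[N], MonObj.comp_pow, Category.comp_id, MonObj.comp_one]
      exact one_pow _
    obtain ⟨N', _, _, i, Q, _, q, _, _, _, _, _, hne, _, hqf, hqs, hker, hQ⟩ := exists_step N hN
    rcases hQ with ⟨⟨eQ⟩⟩ | ⟨⟨eQ⟩⟩
    swap
    · exact (not_iso_Gm_quotient N hN0 q eQ).elim
    haveI : Mono i := GrpDeligne.mono_of_isKernel hker
    have hlt : (⟨Set.range (i ≫ j).left, by
        haveI : IsClosedImmersion (i ≫ j).left := by rw [Over.comp_left]; infer_instance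
        exact (i ≫ j).left.isClosedEmbedding.isClosed_range⟩ : TopologicalSpace.Closeds U.left) < Z := by
      rw [← SetLike.coe_ssubset_coe]
      show Set.range (i ≫ j).left ⊂ (Z : Set U.left)
      rw [← hZ, Over.comp_left, Scheme.Hom.comp_base, TopCat.coe_comp, Set.range_comp,
        ← Set.image_univ (f := j.left)]
      refine j.left.isClosedEmbedding.injective.image_strictMono ?_
      exact Set.ssubset_univ_iff.2 hne
    have hN'0 : Red.HasNoSubtorus k N' := fun T _ t _ _ hT => by
      haveI : IsMonHom (t ≫ i) := inferInstance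
      exact hN0 T (t ≫ i) hT
    obtain ⟨m, ⟨eN'⟩, hm⟩ := ih _ hlt N' (i ≫ j) (by rw [Over.comp_left]; infer_instance) rfl hN'0
    obtain ⟨hsec, -⟩ := main N' hN'0
    obtain ⟨eG⟩ := iso_Ga (k := k)
    let eQ' : Q ≅ specGrp (R := k) (SymmetricAlgebra k k) := (Grp.forget _).mapIso (eQ ≪≫ eG.symm)
    haveI : IsIso eQ'.hom.left := inferInstanceAs (IsIso ((Over.forget _).map eQ'.hom))
    haveI : IsAffine (specGrp (R := k) (SymmetricAlgebra k k)).left := isAffine_Spec _
    haveI : IsAffine Q.left := .of_isIso eQ'.hom.left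
    obtain ⟨e₁⟩ := nonempty_iso_tensor i q hker hsec
    obtain ⟨e₂⟩ := iso_affSp_of_algEquiv
      ((SymmetricAlgebra.equivMvPolynomial (Module.Basis.singleton (Fin 1) k)))
    obtain ⟨e₃⟩ := affSp_tensor (k := k) m 1
    refine ⟨m + 1, ⟨e₁ ≪≫ tensorIso eN' (eQ' ≪≫ e₂.symm) ≪≫ e₃⟩, ?_⟩
    let ε : Q ≅ Red.Ga S₀ := (Grp.forget _).mapIso eQ
    haveI : IsMonHom ε.hom := eQ.hom.hom.isMonHom_hom
    have hp : ((𝟙 N) ^ p) ≫ q = 1 := by
      rw [← cancel_mono ε.hom, MonObj.one_comp, MonObj.pow_comp, Category.id_comp, MonObj.pow_comp]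
      exact pow_Ga p _
    obtain ⟨n, hn⟩ := GrpDeligne.exists_lift_ker hker _ hp
    have hn' : n ^ (p ^ m) = 1 := by
      rw [← Category.comp_id n, ← MonObj.comp_pow, hm, MonObj.comp_one]
    rw [pow_succ', pow_mul, ← hn, ← MonObj.pow_comp, hn', MonObj.one_comp]

end GrothLib.UnipSplit24
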