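import Groth.Agent.Lib.CommHopf14.Largest
import Groth.Agent.Lib.DimOne16.Sub
import Mathlib.Algebra.Module.PID
import Mathlib.LinearAlgebra.FreeModule.PID

/-!
# A non-trivial character of a connected commutative group gives a split rank one quotient algebra
-/

set_option autoImplicit false
set_option linter.all false

universe u

open TensorProduct HopfRep GrothLib.Unip GrothLib.CommHopf14

namespace GrothLib.UnipSplit24

variable {k : Type u} [Field k] {A : Type u} [CommRing A] [HopfAlgebra k A]

/-- A unipotent group-like element is one. -/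
theorem groupLike_eq_one_of_mem_soc {g : A} (hg : IsGroupLikeElem k g) :
    ∀ n, g ∈ soc k A A n → g = 1 := by
  intro n
  induction n with
  | zero =>
    intro h
    exact absurd ((Submodule.mem_bot k).1 h) hg.ne_zero
  | succ n ih =>
    intro h
    by_contra hne
    have hne' : g - 1 ≠ 0 := sub_ne_zero.2 hne
    obtain ⟨f, hf⟩ : ∃ f : Module.Dual k A, f (g - 1) ≠ 0 := by
      by_contra hall
      simp only [not_exists, not_not] at hall
      exact hne' ((Module.forall_dual_apply_eq_zero_iff k _).1 hall)
    obtain ⟨z, hz⟩ := mem_next.1 h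
    have h2 : TensorProduct.rid k A (f.lTensor A ((soc k A A n).subtype.rTensor A z)) ∈ soc k A A n := by
      clear hz
      induction z using TensorProduct.induction_on with
      | zero => simp
      | tmul p q =>
        rw [LinearMap.rTensor_tmul, LinearMap.lTensor_tmul, TensorProduct.rid_tmul]
        exact Submodule.smul_mem _ _ p.2
      | add p q hp hq => rw [map_add, map_add, map_add]; exact add_mem hp hq
    have e : (soc k A A n).subtype.rTensor A z = g ⊗ₜ[k] (g - 1) := by
      rw [hz]
      show Coalgebra.comul (R := k) g - g ⊗ₜ[k] (1 : A) = _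
      rw [hg.comul_eq_tmul_self, TensorProduct.tmul_sub]
    rw [e, LinearMap.lTensor_tmul, TensorProduct.rid_tmul] at h2
    have h3 := Submodule.smul_mem _ (f (g - 1))⁻¹ h2
    rw [smul_smul, inv_mul_cancel₀ hf, one_smul] at h3
    exact hne (ih h3)

/-- A finitely generated commutative group with an element of infinite order maps onto the integers. -/
theorem exists_onto_int {M : Type u} [CommGroup M] [Group.FG M] (x : M) (hx : ∀ n : ℕ, 0 < n → x ^ n ≠ 1) :
    ∃ f : M →* Multiplicative ℤ, Function.Surjective f := by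
  let N := Additive M
  haveI : Module.Finite ℤ N := Module.Finite.iff_addGroup_fg.2 inferInstance
  have hnt : Additive.ofMul x ∉ Submodule.torsion ℤ N := by
    rintro ⟨⟨a, ha⟩, hax⟩
    have ha0 : a ≠ 0 := nonZeroDivisors.ne_zero ha
    refine hx a.natAbs (Int.natAbs_pos.2 ha0) ?_
    have h : x ^ a = 1 := by
      have := congrArg Additive.toMul hax
      exact this
    rcases Int.natAbs_eq a with h' | h'
    · rw [h', zpow_natCast] at h; exact h
    · rw [h', zpow_neg, zpow_natCast, inv_eq_one] at h; exact h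
  obtain ⟨d, hd⟩ : ∃ d : Module.Dual ℤ (N ⧸ Submodule.torsion ℤ N),
      d (Submodule.Quotient.mk (Additive.ofMul x)) ≠ 0 := by
    by_contra hall
    simp only [not_exists, not_not] at hall
    exact hnt ((Submodule.Quotient.mk_eq_zero _).1 ((Module.forall_dual_apply_eq_zero_iff ℤ _).1 hall))
  let F : N →+ ℤ := (d.comp (Submodule.mkQ _)).toAddMonoidHom
  obtain ⟨n, hn⟩ := Int.subgroup_cyclic F.range
  rw [← AddSubgroup.zmultiples_eq_closure] at hn
  have hn0 : n ≠ 0 := fun h0 => hd (by
    have hm : F (Additive.ofMul x) ∈ F.range := ⟨_, rfl⟩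
    rw [hn, h0, AddSubgroup.zmultiples_zero_eq_bot, AddSubgroup.mem_bot] at hm
    exact hm)
  have hdvd : ∀ y, n ∣ F y := fun y => by
    have hm : F y ∈ F.range := ⟨y, rfl⟩
    rw [hn, Int.mem_zmultiples_iff] at hm
    exact hm
  refine ⟨{ toFun := fun m => Multiplicative.ofAdd (F (Additive.ofMul m) / n)
            map_one' := by simp
            map_mul' := fun a b => by
              rw [ofMul_mul, map_add, Int.add_ediv_of_dvd_left (hdvd _)]; rfl }, fun z => ?_⟩
  have hz : Multiplicative.toAdd z * n ∈ F.range := by rw [hn, Int.mem_zmultiples_iff]; exact dvd_mul_left _ _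
  obtain ⟨y, hy⟩ := hz
  refine ⟨Additive.toMul y, ?_⟩
  show Multiplicative.ofAdd (F (Additive.ofMul (Additive.toMul y)) / n) = z
  rw [ofMul_toMul, hy, Int.mul_ediv_cancel _ hn0]
  rfl

variable [IsAlgClosed k] [IsDomain A] [Coalgebra.IsCocomm k A]

/-- A group-like element of finite order in a domain over an algebraically closed field is one. -/
theorem groupLike_eq_one_of_pow {g : A} (hg : IsGroupLikeElem k g) {n : ℕ} (hn : 0 < n) (h : g ^ n = 1) : g = 1 := by
  have hint : IsIntegral k g := ⟨Polynomial.X ^ n - 1, Polynomial.monic_X_pow_sub_C 1 hn.ne', by simp [h]⟩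
  obtain ⟨c, rfl⟩ : ∃ c, algebraMap k A c = g := by
    have hd : (minpoly k g).degree = 1 :=
      IsAlgClosed.degree_eq_one_of_irreducible k (minpoly.irreducible hint)
    have hc := minpoly.mem_range_of_degree_eq_one k g hd
    exact hc
  have hc : c = 1 := by
    have := hg.counit_eq_one
    rwa [Bialgebra.counit_algebraMap] at this
  rw [hc, map_one]

/-- A non-trivial character gives a surjection onto the algebra of functions of the multiplicative group. -/
theorem exists_surjective_laurent [Algebra.FiniteType k A] {g : A} (hg : IsGroupLikeElem k g) (hg1 : g ≠ 1) :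
    ∃ φ : A →ₐc[k] MonoidAlgebra k (Multiplicative ℤ), Function.Surjective φ := by
  classical
  let hB := isHopfSubalgebra_unipPart (k := k) (A := A)
  letI := GrothLib.Hopf.Sub.hopfAlgebra hB
  let ψ : unipPart (k := k) (A := A) →ₐc[k] A := GrothLib.Hopf.Sub.valHom hB
  let J := GrothLib.Hopf.kerIdeal k ψ
  haveI hJ : J.IsHopfIdeal k := GrothLib.Hopf.FiniteRank.isHopfIdeal_kerIdeal ψ
  have hJle : J ≤ Groth.Agent.Lib.DimOne16.augIdeal (unipPart (k := k) (A := A)) :=
    Ideal.map_le_iff_le_comap.2 fun b hb => Ideal.subset_span ⟨b.2, hb⟩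
  have hmk : ∀ n, ∀ b ∈ soc k A A n, Ideal.Quotient.mk J b = Coalgebra.counit (R := k) b • (1 : A ⧸ J) := by
    intro n b hb
    have hmem : b - Coalgebra.counit (R := k) b • (1 : A) ∈ J := by
      let b' : unipPart (k := k) (A := A) :=
        (⟨b, n, hb⟩ : unipPart (k := k) (A := A)) - Coalgebra.counit (R := k) b • (1 : unipPart (k := k) (A := A))
      have e : ψ b' = b - Coalgebra.counit (R := k) b • (1 : A) := rfl
      rw [← e]
      show (ψ : ↥(unipPart (k := k) (A := A)) →+* A) b' ∈ GrothLib.Hopf.kerIdeal k ψ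
      refine Ideal.mem_map_of_mem (ψ : ↥(unipPart (k := k) (A := A)) →+* A) ?_
      rw [RingHom.mem_ker]
      change Coalgebra.counit (R := k) (b - Coalgebra.counit (R := k) b • (1 : A)) = 0
      rw [map_sub, map_smul, Bialgebra.counit_one, smul_eq_mul, mul_one, sub_self]
    exact Ideal.Quotient.eq.2 hmem
  let q : A →ₐc[k] A ⧸ J := Bialgebra.Quotient.mkBialgHom J
  have hq : ∀ a, q a = Ideal.Quotient.mk J a := fun a => rfl
  have hdiag : Submodule.span k {x : A ⧸ J | IsGroupLikeElem k x} = ⊤ := by
    rw [eq_top_iff]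
    rintro z -
    obtain ⟨p, rfl⟩ := Ideal.Quotient.mk_surjective z
    rw [← hq]
    have hp := (span_groupLike_mul_unipPart (k := k) (A := A)).symm ▸ Submodule.mem_top (x := p)
    induction hp using Submodule.span_induction with
    | mem x hx =>
      obtain ⟨h, b, hh, ⟨n, hb⟩, rfl⟩ := hx
      rw [map_mul, hq b, hmk n b hb, mul_smul_comm, _root_.mul_one]
      exact Submodule.smul_mem _ _ (Submodule.subset_span (hh.map q))
    | zero => rw [map_zero]; exact zero_mem _
    | add x y _ _ hx hy => rw [map_add]; exact add_mem hx hy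
    | smul c x _ hx => rw [map_smul]; exact Submodule.smul_mem _ _ hx
  haveI : Algebra.FiniteType k (A ⧸ J) := inferInstance
  haveI : Group.FG (GroupLike k (A ⧸ J)) := GrothLib.CharFG28.fg_groupLike k _
  let L : MonoidAlgebra k (GroupLike k (A ⧸ J)) ≃ₐc[k] A ⧸ J :=
    BialgEquiv.ofBijective (MonoidAlgebra.liftGroupLikeBialgHom (R := k) (A := A ⧸ J))
      ⟨GrothLib.CharFG28.liftGroupLike_injective k _, fun z => by
        have hz := hdiag.symm ▸ Submodule.mem_top (x := z)
        induction hz using Submodule.span_induction with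
        | mem g hg => exact ⟨MonoidAlgebra.single ⟨g, hg⟩ 1, by simp⟩
        | zero => exact ⟨0, map_zero _⟩
        | add x y _ _ hx hy =>
          obtain ⟨p, rfl⟩ := hx
          obtain ⟨r, rfl⟩ := hy
          exact ⟨p + r, map_add _ p r⟩
        | smul c x _ hx =>
          obtain ⟨p, rfl⟩ := hx
          exact ⟨c • p, map_smul _ c p⟩⟩
  let gb : GroupLike k (A ⧸ J) := ⟨q g, hg.map q⟩
  have hinf : ∀ n : ℕ, 0 < n → gb ^ n ≠ 1 := by
    intro n hn h
    have h' : q (g ^ n) = 1 := by
      rw [map_pow]
      exact congrArg GroupLike.val h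
    have hgn : IsGroupLikeElem k (g ^ n) := hg.pow
    have hmem : g ^ n ∈ unipPart (k := k) (A := A) := by
      refine Groth.Agent.Lib.DimOne16.mem_of_invariant hB _ ?_
      rw [hgn.comul_eq_tmul_self, ← TensorProduct.tmul_sub]
      have hm : g ^ n - 1 ∈ (Groth.Agent.Lib.DimOne16.augIdeal (unipPart (k := k) (A := A))).restrictScalars k :=
        hJle (Ideal.Quotient.eq.1 (by rw [← hq, h', map_one]))
      exact ⟨(g ^ n) ⊗ₜ[k] ⟨_, hm⟩, rfl⟩
    obtain ⟨m, hm⟩ := hmem
    exact hg1 (groupLike_eq_one_of_pow hg hn (groupLike_eq_one_of_mem_soc hgn m hm))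
  obtain ⟨f, hf⟩ := exists_onto_int gb hinf
  refine ⟨((MonoidAlgebra.mapDomainBialgHom k f).comp (L.symm : A ⧸ J →ₐc[k] _)).comp q, ?_⟩
  refine Function.Surjective.comp (g := MonoidAlgebra.mapDomainBialgHom k f) ?_
    (L.symm.surjective.comp Ideal.Quotient.mk_surjective)
  intro z
  induction z using MonoidAlgebra.induction_linear with
  | zero => exact ⟨0, map_zero _⟩
  | add x y hx hy =>
    obtain ⟨p, rfl⟩ := hx
    obtain ⟨r, rfl⟩ := hy
    exact ⟨p + r, map_add _ p r⟩
  | single m c =>
    obtain ⟨a, rfl⟩ := hf m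
    exact ⟨MonoidAlgebra.single a c, by simp⟩

end GrothLib.UnipSplit24
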